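import Groth.Agent.DQC.Shriek
import Groth.Agent.DQC.RHomBase
import Groth.Agent.CohDual.ExtShCoherent
import Groth.Agent.CohDual.ExtShProj
import Groth.Agent.SSExist.ExtSheafHom
import Groth.Agent.QCohLib.CohLocal
import Groth.Agent.HigherDirect.Coherent
import Groth.Agent.DCohPerf.FreeLocus

/-!
The sheaf Hom of coherent modules is coherent.
-/

set_option autoImplicit false
set_option linter.style.haveILetI false

universe u

open CategoryTheory CategoryTheory.Limits AlgebraicGeometry

namespace Groth.Agent.CohHom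

open Groth.Agent.ModGroth Groth.Agent.CohDual

variable {X : Scheme.{u}}

attribute [local instance] Abelian.hasFiniteBiproducts

/-- `Hom(O, -) ≅ id`. -/
noncomputable def homUnitIso [ModSite.HasSheafHom (O := X.sheaf) (Coh.structureModule X)] (G : X.Modules) :
    homMod (Coh.structureModule X) G ≅ G :=
  ((ModSite.sheafHomAdj (O := X.sheaf) (Coh.structureModule X)).rightAdjointUniq
    (Adjunction.id.ofNatIsoLeft (DQC.tensorUnitR (X := X)).symm)).app G

theorem isCoh_homMod_free [IsLocallyNoetherian X] (n : ℕ) [ModSite.HasSheafHom (O := X.sheaf) (FlatMod.freeMod X n)]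
    (G : X.Modules) (hG : Coh.IsCoh G) : Coh.IsCoh (homMod (FlatMod.freeMod X n) G) := by
  haveI : ∀ N : X.Modules, ModSite.HasSheafHom (O := X.sheaf) N := fun N => hasSheafHom (O := X.sheaf) N
  let e := biproduct.isoCoproduct fun _ : Fin n => Coh.structureModule X
  refine isCoh_homMod_sum (fun _ : Fin n => Coh.structureModule X) _
    (fun c => biproduct.ι (fun _ : Fin n => Coh.structureModule X) c ≫ e.hom)
    (fun c => e.inv ≫ biproduct.π (fun _ : Fin n => Coh.structureModule X) c) ?_ G
    (CohFinite.isCoh_biproduct (QCohLib.isCoh_of_iso (homUnitIso G).symm hG) n)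
  have h := congrArg (fun t => e.inv ≫ t ≫ e.hom) (biproduct.total (f := fun _ : Fin n => Coh.structureModule X))
  simp only [Category.id_comp, Iso.inv_hom_id] at h
  erw [Preadditive.sum_comp, Preadditive.comp_sum] at h
  refine Eq.trans (Finset.sum_congr rfl fun c _ => ?_) h
  exact (Category.assoc _ _ _).trans (congrArg (e.inv ≫ ·) (Category.assoc _ _ _).symm)

theorem isCoh_homMod_of_pres [IsLocallyNoetherian X] {M : X.Modules} {a b : ℕ}
    (f : FlatMod.freeMod X a ⟶ FlatMod.freeMod X b) (g : FlatMod.freeMod X b ⟶ M) (z : f ≫ g = 0)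
    (hex : (ShortComplex.mk f g z).Exact) [Epi g] (G : X.Modules) (hG : Coh.IsCoh G)
    [ModSite.HasSheafHom (O := X.sheaf) M] : Coh.IsCoh (homMod M G) := by
  haveI : ∀ N : X.Modules, ModSite.HasSheafHom (O := X.sheaf) N := fun N => hasSheafHom (O := X.sheaf) N
  haveI : ∀ N : ModSite.Mod X.sheaf, ModSite.HasSheafHom N := hasSheafHom
  let π₁ : FlatMod.freeMod X a ⟶ kernel g := kernel.lift g f z
  haveI : Epi π₁ := (ShortComplex.exact_iff_epi_kernel_lift _).1 hex
  let S : ShortComplex X.Modules := ShortComplex.mk (kernel.ι g) g (kernel.condition g)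
  have hS : S.ShortExact := { exact := ShortComplex.exact_kernel g }
  haveI : Mono (C := X.Modules) ((ExtSupp.sheafHomMap (O := X.sheaf) π₁).app G) :=
    mono_sheafHomMap (O := X.sheaf) (S := ShortComplex.mk (kernel.ι π₁) π₁ (kernel.condition π₁))
      { exact := ShortComplex.exact_kernel π₁, mono_f := inferInstanceAs (Mono (kernel.ι π₁)),
        epi_g := inferInstanceAs (Epi π₁) } G
  obtain ⟨w, hw⟩ := exact_comp_mono (A := X.Modules) (exact_sheafHomMap (O := X.sheaf) (S := S) hS G)
    ((ExtSupp.sheafHomMap (O := X.sheaf) π₁).app G) rfl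
  haveI : Mono (C := X.Modules) ((ExtSupp.sheafHomMap (O := X.sheaf) g).app G) :=
    mono_sheafHomMap (O := X.sheaf) (S := S) hS G
  exact QCohLib.isCoh_of_iso (IsLimit.conePointUniqueUpToIso (kernelIsKernel _) hw.fIsKernel)
    (QCohLib.isCoh_kernel _ (isCoh_homMod_free b G hG) (isCoh_homMod_free a G hG).1)

/-- The projection formula as a natural isomorphism. -/
noncomputable def jSTensorIso (V : X.Opens) (F : X.Modules) :
    DQC.jS V ⋙ (DCoh.tensorBi (X := X)).flip.obj F ≅
      (DCoh.tensorBi (X := (V : Scheme.{u}))).flip.obj ((Scheme.Modules.restrictFunctor V.ι).obj F) ⋙ DQC.jS V :=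
  NatIso.ofComponents (fun A => (DQC.jSCompat V).iso A F) (fun a => (DQC.jSCompat V).natL a F)

/-- `Hom(F, -)|_V ≅ Hom(F|_V, -|_V)`. -/
noncomputable def homModRestrIso (V : X.Opens) (F : X.Modules) [ModSite.HasSheafHom (O := X.sheaf) F]
    [ModSite.HasSheafHom (O := (V : Scheme.{u}).sheaf) ((Scheme.Modules.restrictFunctor V.ι).obj F)] (G : X.Modules) :
    (Scheme.Modules.restrictFunctor V.ι).obj (homMod F G) ≅
      homMod ((Scheme.Modules.restrictFunctor V.ι).obj F) ((Scheme.Modules.restrictFunctor V.ι).obj G) :=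
  ((((DQC.jSAdj V).comp (ModSite.sheafHomAdj (O := X.sheaf) F)).ofNatIsoLeft (jSTensorIso V F)).rightAdjointUniq
    ((ModSite.sheafHomAdj (O := (V : Scheme.{u}).sheaf) ((Scheme.Modules.restrictFunctor V.ι).obj F)).comp
      (DQC.jSAdj V))).app G

/-- Local presentations on open subschemes. -/
lemma exists_pres {M : X.Modules} (h : CohB1.IsFP M) (x : X) :
    ∃ (U : X.Opens), x ∈ U ∧ ∃ (m n : ℕ) (f : FlatMod.freeMod (U : Scheme.{u}) m ⟶ FlatMod.freeMod (U : Scheme.{u}) n)
        (g : FlatMod.freeMod (U : Scheme.{u}) n ⟶ (Scheme.Modules.restrictFunctor U.ι).obj M)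
        (z : f ≫ g = 0), (ShortComplex.mk f g z).Exact ∧ Epi g := by
  obtain ⟨ι, U, P, hU, hP⟩ := QCohLib.exists_cover_finitePresentation h
  obtain ⟨i, hi⟩ := hU x
  have := hP i
  have : Finite (P i).generators.I := (hP i).isFiniteType_generators.finite
  have : Finite (P i).relations.I := (hP i).isFiniteType_relations.finite
  have z : ((SheafOfModules.freeHomEquiv _).symm (P i).relations.s ≫ kernel.ι _) ≫ (P i).generators.π = 0 := by simp
  have hπ : Epi (P i).generators.π := (P i).generators.epi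
  have hS := ShortComplex.exact_of_g_is_cokernel (ShortComplex.mk _ _ z) (P i).isColimit
  let e := DCohPerf.freeFinIso (U i : Scheme.{u}) (P i).generators.I
  let d := DCohPerf.freeFinIso (U i : Scheme.{u}) (P i).relations.I
  exact ⟨U i, hi, _, _, _, _, DCohPerf.zero_congr z d e (Iso.refl _),
    DCohPerf.exact_congr hS d e (Iso.refl _) _ _ _ rfl rfl,
    @epi_comp _ _ _ _ _ _ inferInstance _ (@epi_comp _ _ _ _ _ _ hπ _ inferInstance)⟩

theorem isCoh_sheafHom [IsLocallyNoetherian X] (F G : X.Modules) (hF : Coh.IsCoh F) (hG : Coh.IsCoh G)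
    [DCoh.HasSheafHom F] : Coh.IsCoh ((DCoh.sheafHom F).obj G) := by
  haveI : ∀ N : X.Modules, ModSite.HasSheafHom (O := X.sheaf) N := fun N => hasSheafHom (O := X.sheaf) N
  refine QCohLib.isCoh_of_iso ((SSExist.homXIso F).app G) ?_
  choose U hxU a b f g z hex hg using fun x => exists_pres (QCohLib.isCoh_iff_isFP.1 hF) x
  refine QCohLib.isCoh_of_cover (fun x : X => (U x).ι) (fun x => ⟨x, by simpa using hxU x⟩) fun x => ?_
  haveI : ModSite.HasSheafHom (O := (U x : Scheme.{u}).sheaf) ((Scheme.Modules.restrictFunctor (U x).ι).obj F) :=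
    hasSheafHom _
  haveI : IsLocallyNoetherian (U x : Scheme.{u}) := isLocallyNoetherian_of_isOpenImmersion (U x).ι
  haveI := hg x
  exact QCohLib.isCoh_of_iso (homModRestrIso (U x) F G).symm
    (isCoh_homMod_of_pres (f x) (g x) (z x) (hex x) _ (HigherDirect.isCoh_restrict (U x).ι hG))

end Groth.Agent.CohHom
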